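import Mathlib
import Cfsg.Agent.LieClassical.SympCount

/-!
# The unipotent radical of a Borel subgroup and of the Siegel parabolic of `Sp_{2m}(q)` as matrix groups
(helper65, task 5305, S4929)

* `UU m F` : block upper triangular, `A` upper unitriangular; `QQ m F` : `A = D = 1`; `CC m F` : `A = D = 1`, `B` diagonal;
* `TT m F` : `diag(ε, ε)`, `ε_i = ±1`;
* `exists_sylow` : `UU m F` is a Sylow subgroup;
* `exists_X` : a 2-element of `GL_m(q)` without invariant bilinear forms, if `m` is even or `q ≡ 1 mod 4`.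
-/

set_option autoImplicit false
set_option linter.unusedSectionVars false

open Matrix

namespace Cfsg.Agent.H65.EP.PSp

/-- a submonoid of a finite group -/
def ofSub {G : Type*} [Group G] [Finite G] (S : Submonoid G) : Subgroup G where
  __ := S
  inv_mem' := fun {x} hx => by
    have h : x⁻¹ = x ^ (orderOf x - 1) := by
      rw [eq_comm, ← mul_eq_one_iff_eq_inv, ← pow_succ, Nat.sub_add_cancel (orderOf_pos x), pow_orderOf_eq_one]
    rw [h]
    exact S.pow_mem hx _

theorem mem_ofSub {G : Type*} [Group G] [Finite G] {S : Submonoid G} {x : G} : x ∈ ofSub S ↔ x ∈ S := Iff.rfl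

section mat

variable {F : Type} [Field F] {m : ℕ}

/-- upper unitriangular -/
def IsUT (A : Matrix (Fin m) (Fin m) F) : Prop := (∀ i, A i i = 1) ∧ ∀ i j, j < i → A i j = 0

theorem isUT_one : IsUT (1 : Matrix (Fin m) (Fin m) F) :=
  ⟨fun i => Matrix.one_apply_eq i, fun _ _ h => Matrix.one_apply_ne h.ne'⟩

theorem IsUT.mul {A B : Matrix (Fin m) (Fin m) F} (hA : IsUT A) (hB : IsUT B) : IsUT (A * B) := by
  refine ⟨fun i => ?_, fun i j h => ?_⟩
  · rw [Matrix.mul_apply, Finset.sum_eq_single i, hA.1, hB.1, mul_one]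
    · intro k _ hk
      rcases lt_or_gt_of_ne hk with h | h
      · rw [hA.2 i k h, zero_mul]
      · rw [hB.2 k i h, mul_zero]
    · simp
  · rw [Matrix.mul_apply]
    refine Finset.sum_eq_zero fun k _ => ?_
    rcases lt_or_ge k i with h1 | h1
    · rw [hA.2 i k h1, zero_mul]
    · rw [hB.2 k j (h.trans_le h1), mul_zero]

theorem IsUT.bt {A : Matrix (Fin m) (Fin m) F} (hA : IsUT A) : A.BlockTriangular id :=
  fun _ _ h => hA.2 _ _ h

theorem IsUT.det {A : Matrix (Fin m) (Fin m) F} (hA : IsUT A) : A.det = 1 := by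
  rw [Matrix.det_of_isUpperTriangular hA.bt]
  exact Finset.prod_eq_one fun i _ => hA.1 i

theorem IsUT.sub_pow {A : Matrix (Fin m) (Fin m) F} (hA : IsUT A) : (A - 1) ^ m = 0 := by
  have h := Matrix.aeval_self_charpoly A
  have h1 : A.charpoly = (Polynomial.X - Polynomial.C 1) ^ m := by
    rw [Matrix.charpoly_of_isUpperTriangular A hA.bt, Finset.prod_congr rfl fun i _ => by rw [hA.1 i]]
    simp
  rw [h1, map_pow] at h
  simpa using h

theorem IsUT.pow_eq_one {r : ℕ} [Fact r.Prime] [CharP F r] {A : Matrix (Fin m) (Fin m) F} (hA : IsUT A) {k : ℕ}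
    (hk : m ≤ r ^ k) : A ^ r ^ k = 1 := by
  rcases Nat.eq_zero_or_pos m with rfl | hm
  · exact Subsingleton.elim _ _
  have : Nonempty (Fin m) := ⟨⟨0, hm⟩⟩
  have h1 : (A - 1) ^ r ^ k = A ^ r ^ k - 1 ^ r ^ k := sub_pow_char_pow_of_commute _ _ (Commute.one_right A)
  rw [one_pow, pow_eq_zero_of_le hk hA.sub_pow] at h1
  exact (sub_eq_zero.1 h1.symm)

end mat

section grp

variable (m : ℕ) (F : Type) [Field F] [Fintype F]

/-- the symplectic group -/
abbrev Sp : Type := Matrix.symplecticGroup (Fin m) F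

/-- block upper triangular, `A` upper unitriangular -/
def UU : Subgroup (Sp m F) := ofSub
  { carrier := {g | ∃ A B D, g.1 = fromBlocks A B 0 D ∧ IsUT A}
    one_mem' := ⟨1, 0, 1, (Matrix.fromBlocks_one).symm, isUT_one⟩
    mul_mem' := by
      rintro g h ⟨A, B, D, hg, hA⟩ ⟨A', B', D', hh, hA'⟩
      refine ⟨A * A', A * B' + B * D', D * D', ?_, hA.mul hA'⟩
      show g.1 * h.1 = _
      rw [hg, hh, Matrix.fromBlocks_multiply]
      simp }

/-- the unipotent radical of the Siegel parabolic -/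
def QQ : Subgroup (Sp m F) := ofSub
  { carrier := {g | ∃ B, g.1 = fromBlocks 1 B 0 1}
    one_mem' := ⟨0, (Matrix.fromBlocks_one).symm⟩
    mul_mem' := by
      rintro g h ⟨B, hg⟩ ⟨B', hh⟩
      refine ⟨B' + B, ?_⟩
      show g.1 * h.1 = _
      rw [hg, hh, Matrix.fromBlocks_multiply]
      simp }

/-- the product of the long simple root groups of the frame -/
def CC : Subgroup (Sp m F) := ofSub
  { carrier := {g | ∃ B, g.1 = fromBlocks 1 B 0 1 ∧ ∀ i j, i ≠ j → B i j = 0}
    one_mem' := ⟨0, (Matrix.fromBlocks_one).symm, fun _ _ _ => rfl⟩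
    mul_mem' := by
      rintro g h ⟨B, hg, hB⟩ ⟨B', hh, hB'⟩
      refine ⟨B' + B, ?_, fun i j hij => by rw [Matrix.add_apply, hB i j hij, hB' i j hij, add_zero]⟩
      show g.1 * h.1 = _
      rw [hg, hh, Matrix.fromBlocks_multiply]
      simp }

/-- diagonal matrices with entries `±1` -/
def TT : Subgroup (Sp m F) := ofSub
  { carrier := {g | ∃ ε : Fin m → F, (∀ i, ε i * ε i = 1) ∧ g.1 = fromBlocks (diagonal ε) 0 0 (diagonal ε)}
    one_mem' := ⟨1, fun _ => mul_one _, by
      show (1 : Matrix (Fin m ⊕ Fin m) (Fin m ⊕ Fin m) F) = fromBlocks (diagonal fun _ => 1) 0 0 (diagonal fun _ => 1)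
      rw [Matrix.diagonal_one, Matrix.fromBlocks_one]⟩
    mul_mem' := by
      rintro g h ⟨ε, hε, hg⟩ ⟨ε', hε', hh⟩
      refine ⟨fun i => ε i * ε' i, fun i => ?_, ?_⟩
      · show ε i * ε' i * (ε i * ε' i) = 1
        rw [mul_mul_mul_comm, hε, hε', mul_one]
      · show g.1 * h.1 = _
        rw [hg, hh, Matrix.fromBlocks_multiply, Matrix.diagonal_mul_diagonal]
        simp }

variable {m F}

theorem mem_UU {g : Sp m F} : g ∈ UU m F ↔ ∃ A B D, g.1 = fromBlocks A B 0 D ∧ IsUT A := Iff.rfl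
theorem mem_QQ {g : Sp m F} : g ∈ QQ m F ↔ ∃ B, g.1 = fromBlocks 1 B 0 1 := Iff.rfl
theorem mem_CC {g : Sp m F} : g ∈ CC m F ↔ ∃ B, g.1 = fromBlocks 1 B 0 1 ∧ ∀ i j, i ≠ j → B i j = 0 := Iff.rfl
theorem mem_TT {g : Sp m F} : g ∈ TT m F ↔
    ∃ ε : Fin m → F, (∀ i, ε i * ε i = 1) ∧ g.1 = fromBlocks (diagonal ε) 0 0 (diagonal ε) := Iff.rfl

theorem rel {g : Sp m F} {A B D : Matrix (Fin m) (Fin m) F} (h : g.1 = fromBlocks A B 0 D) : Aᵀ * D = 1 := by
  have h1 := g.2
  rw [h, SymplecticGroup.fromBlocks_mem_iff] at h1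
  simpa using h1.2.2

theorem pow_blocks {g : Sp m F} {A B D : Matrix (Fin m) (Fin m) F} (h : g.1 = fromBlocks A B 0 D) (n : ℕ) :
    ∃ B', (g ^ n).1 = fromBlocks (A ^ n) B' 0 (D ^ n) := by
  induction n with
  | zero => exact ⟨0, by rw [pow_zero, pow_zero, pow_zero]; exact (Matrix.fromBlocks_one).symm⟩
  | succ n ih =>
    obtain ⟨B', hB'⟩ := ih
    refine ⟨A ^ n * B + B' * D, ?_⟩
    rw [pow_succ, pow_succ, pow_succ]
    show (g ^ n).1 * g.1 = _
    rw [hB', h, Matrix.fromBlocks_multiply]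
    simp

theorem pow_q {g : Sp m F} {B : Matrix (Fin m) (Fin m) F} (h : g.1 = fromBlocks 1 B 0 1) (n : ℕ) :
    (g ^ n).1 = fromBlocks 1 (n • B) 0 1 := by
  induction n with
  | zero => rw [pow_zero, zero_smul]; exact (Matrix.fromBlocks_one).symm
  | succ n ih =>
    rw [pow_succ, succ_nsmul']
    show (g ^ n).1 * g.1 = _
    rw [ih, h, Matrix.fromBlocks_multiply]
    simp

variable {r : ℕ} [Fact r.Prime] [CharP F r]

theorem isPGroup_QQ : IsPGroup r (QQ m F) := by
  rintro ⟨g, B, hB⟩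
  refine ⟨1, Subtype.ext (Subtype.ext ?_)⟩
  show (g ^ r ^ 1).1 = 1
  rw [pow_one, pow_q hB, ← Nat.cast_smul_eq_nsmul F, CharP.cast_eq_zero, zero_smul]
  exact Matrix.fromBlocks_one

theorem isPGroup_UU : IsPGroup r (UU m F) := by
  rintro ⟨g, A, B, D, hB, hA⟩
  obtain ⟨k, hk⟩ : ∃ k, m ≤ r ^ k := ⟨m, (Nat.lt_pow_self (Fact.out : r.Prime).one_lt).le⟩
  obtain ⟨B', hB'⟩ := pow_blocks hB (r ^ k)
  rw [hA.pow_eq_one hk] at hB'
  have h1 := rel hB'
  rw [Matrix.transpose_one, Matrix.one_mul] at h1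
  rw [h1] at hB'
  refine ⟨k + 1, Subtype.ext (Subtype.ext ?_)⟩
  show (g ^ r ^ (k + 1)).1 = 1
  rw [pow_succ, pow_mul, pow_q hB', ← Nat.cast_smul_eq_nsmul F, CharP.cast_eq_zero, zero_smul]
  exact Matrix.fromBlocks_one

theorem isPGroup_TT : IsPGroup 2 (TT m F) := by
  rintro ⟨g, ε, hε, hg⟩
  refine ⟨1, Subtype.ext (Subtype.ext ?_)⟩
  show (g ^ 2 ^ 1).1 = 1
  rw [pow_one, pow_two]
  show g.1 * g.1 = 1
  rw [hg, Matrix.fromBlocks_multiply, Matrix.diagonal_mul_diagonal]
  simp [hε]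

/-- `[[1, S], [0, 1]]` -/
def nn (S : Matrix (Fin m) (Fin m) F) (hS : Sᵀ = S) : Sp m F := ⟨fromBlocks 1 S 0 1, by
  rw [SymplecticGroup.fromBlocks_mem_iff]
  simp [hS]⟩

/-- `[[X, 0], [0, Y]]` -/
def lev (X Y : Matrix (Fin m) (Fin m) F) (h : Xᵀ * Y = 1) : Sp m F := ⟨fromBlocks X 0 0 Y, by
  rw [SymplecticGroup.fromBlocks_mem_iff]
  simp [h]⟩

/-- the upper triangular part -/
def ut (M : Matrix (Fin m) (Fin m) F) : Matrix (Fin m) (Fin m) F :=
  Matrix.of fun i j => if i = j then 1 else if i < j then M i j else 0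

/-- the symmetric matrix with the given lower triangular part -/
def sy (M : Matrix (Fin m) (Fin m) F) : Matrix (Fin m) (Fin m) F :=
  Matrix.of fun i j => if i ≤ j then M j i else M i j

theorem isUT_ut (M : Matrix (Fin m) (Fin m) F) : IsUT (ut M) := by
  refine ⟨fun i => ?_, fun i j h => ?_⟩
  · simp [ut]
  · simp [ut, h.ne', not_lt.2 h.le]

theorem sy_symm (M : Matrix (Fin m) (Fin m) F) : (sy M)ᵀ = sy M := by
  ext i j
  rw [Matrix.transpose_apply]
  simp only [sy, Matrix.of_apply]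
  rcases lt_trichotomy i j with h | h | h
  · rw [if_neg (not_le.2 h), if_pos h.le]
  · subst h; rfl
  · rw [if_pos h.le, if_neg (not_le.2 h)]

theorem ut_inv (M : Matrix (Fin m) (Fin m) F) : (ut M)ᵀ * ((ut M)⁻¹)ᵀ = 1 := by
  rw [← Matrix.transpose_mul, Matrix.nonsing_inv_mul _ (by rw [(isUT_ut M).det]; exact isUnit_one),
    Matrix.transpose_one]

/-- coordinates of `U` -/
noncomputable def emb (M : Matrix (Fin m) (Fin m) F) : UU m F :=
  ⟨nn (sy M) (sy_symm M) * lev (ut M) ((ut M)⁻¹)ᵀ (ut_inv M),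
    ⟨ut M, sy M * ((ut M)⁻¹)ᵀ, ((ut M)⁻¹)ᵀ, by
      show fromBlocks 1 (sy M) 0 1 * fromBlocks (ut M) 0 0 ((ut M)⁻¹)ᵀ = _
      rw [Matrix.fromBlocks_multiply]
      simp, isUT_ut M⟩⟩

theorem emb_injective : Function.Injective (emb (m := m) (F := F)) := by
  intro M M' h
  have h1 : fromBlocks 1 (sy M) 0 1 * fromBlocks (ut M) 0 0 ((ut M)⁻¹)ᵀ =
      fromBlocks 1 (sy M') 0 1 * fromBlocks (ut M') 0 0 ((ut M')⁻¹)ᵀ :=
    congrArg (fun x : UU m F => x.1.1) h
  rw [Matrix.fromBlocks_multiply, Matrix.fromBlocks_multiply] at h1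
  simp only [Matrix.one_mul, Matrix.mul_zero, Matrix.zero_mul, add_zero, zero_add] at h1
  obtain ⟨hA, hB, -, -⟩ := Matrix.fromBlocks_inj.1 h1
  rw [← hA] at hB
  have hS : sy M = sy M' := by
    have h2 := congrArg (fun x => x * (ut M)ᵀ) hB
    simp only [Matrix.mul_assoc] at h2
    have h3 : ((ut M)⁻¹)ᵀ * (ut M)ᵀ = 1 := by
      rw [← Matrix.transpose_mul, Matrix.mul_nonsing_inv _ (by rw [(isUT_ut M).det]; exact isUnit_one),
        Matrix.transpose_one]
    rwa [h3, Matrix.mul_one, Matrix.mul_one] at h2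
  ext i j
  rcases lt_or_ge i j with hij | hij
  · have h3 := congrFun (congrFun hA i) j
    simpa [ut, hij.ne, hij] using h3
  · have h3 := congrFun (congrFun hS j) i
    simpa [sy, hij] using h3

theorem le_card_UU : Fintype.card F ^ (m ^ 2) ≤ Nat.card (UU m F) := by
  have h := Nat.card_le_card_of_injective _ (emb_injective (m := m) (F := F))
  refine le_trans (le_of_eq ?_) h
  classical
  have e : Nat.card (Matrix (Fin m) (Fin m) F) = Nat.card (Fin m → Fin m → F) := rfl
  rw [e, Nat.card_fun, Nat.card_fun, Nat.card_eq_fintype_card, Nat.card_eq_fintype_card, Fintype.card_fin, pow_two,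
    pow_mul]

theorem exists_sylow : ∃ P : Sylow r (Sp m F), (P : Subgroup (Sp m F)) = UU m F := by
  obtain ⟨P, hP⟩ := (isPGroup_UU (m := m) (F := F) (r := r)).exists_le_sylow
  refine ⟨P, (Subgroup.eq_of_le_of_card_ge hP ?_).symm⟩
  obtain ⟨n, hr, hn⟩ := FiniteField.card F r
  have hq0 : 0 < Fintype.card F := Fintype.card_pos
  have hnd : ∀ i, ¬ r ∣ Fintype.card F ^ (2 * (i + 1)) - 1 := by
    intro i hi
    have h1 : r ∣ Fintype.card F ^ (2 * (i + 1)) := by
      rw [hn]
      exact (dvd_pow_self r n.ne_zero).trans (dvd_pow_self _ (by omega))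
    have h2 : 1 ≤ Fintype.card F ^ (2 * (i + 1)) := Nat.one_le_pow _ _ hq0
    have h3 : r ∣ 1 := by
      have := Nat.dvd_sub h1 hi
      rwa [Nat.sub_sub_self h2] at this
    exact hr.one_lt.ne' (Nat.dvd_one.1 h3)
  have hprod : ¬ r ∣ ∏ i ∈ Finset.range m, (Fintype.card F ^ (2 * (i + 1)) - 1) := by
    rw [hr.prime.dvd_finsetProd_iff]
    rintro ⟨i, -, hi⟩
    exact hnd i hi
  have hp0 : ∏ i ∈ Finset.range m, (Fintype.card F ^ (2 * (i + 1)) - 1) ≠ 0 := by
    intro h
    rw [h] at hprod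
    exact hprod (dvd_zero _)
  have hcard : Nat.card (P : Subgroup (Sp m F)) = Fintype.card F ^ (m ^ 2) := by
    rw [P.card_eq_multiplicity, Cfsg.Agent.LieClassical.SympCount.card_symplecticGroup,
      Nat.factorization_mul (pow_ne_zero _ hq0.ne') hp0, Finsupp.add_apply,
      Nat.factorization_eq_zero_of_not_dvd hprod, add_zero, hn, ← pow_mul, hr.factorization_pow,
      Finsupp.single_eq_same]
  rw [hcard]
  exact le_card_UU

end grp

section X

variable {F : Type} [Field F] [Fintype F] {m : ℕ}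

theorem sq_form {s : F} (hs : s ≠ 0) (h2 : (2 : F) ≠ 0) {X B : Matrix (Fin m) (Fin m) F} (hX : X * X = s • X + 1)
    (h : X * B * Xᵀ = B) : B = 0 := by
  have hXt : Xᵀ * Xᵀ = s • Xᵀ + 1 := by
    rw [← Matrix.transpose_mul, hX, Matrix.transpose_add, Matrix.transpose_smul, Matrix.transpose_one]
  have h1 : X * B = s • B + B * Xᵀ := by
    calc X * B = X * (X * B * Xᵀ) := by rw [h]
      _ = (X * X) * B * Xᵀ := by simp only [Matrix.mul_assoc]
      _ = s • (X * B * Xᵀ) + B * Xᵀ := by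
        rw [hX, Matrix.add_mul, Matrix.add_mul, Matrix.one_mul, Matrix.smul_mul, Matrix.smul_mul]
      _ = _ := by rw [h]
  have h3 : B * Xᵀ = s • B + X * B := by
    calc B * Xᵀ = (X * B * Xᵀ) * Xᵀ := by rw [h]
      _ = X * B * (Xᵀ * Xᵀ) := by simp only [Matrix.mul_assoc]
      _ = s • (X * B * Xᵀ) + X * B := by
        rw [hXt, Matrix.mul_add, Matrix.mul_one, Matrix.mul_smul]
      _ = _ := by rw [h]
  have h4 : (2 * s) • B = 0 := by
    rw [h3, ← add_assoc, right_eq_add] at h1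
    rw [two_mul, add_smul]
    exact h1
  exact (smul_eq_zero.1 h4).resolve_left (mul_ne_zero h2 hs)

theorem exists_J {m : ℕ} (hm : Even m) : ∃ J : Matrix (Fin m) (Fin m) F, J * J = -1 := by
  obtain ⟨k, rfl⟩ := hm
  refine ⟨Matrix.reindex finSumFinEquiv finSumFinEquiv (Matrix.J (Fin k) F), ?_⟩
  rw [Matrix.reindex_apply, Matrix.submatrix_mul_equiv, Matrix.J_squared, Matrix.submatrix_neg]
  simp

theorem pow_form {J : Matrix (Fin m) (Fin m) F} (hJ : J * J = -1) (x y : F) (n : ℕ) :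
    ∃ a b : F, (x • (1 : Matrix (Fin m) (Fin m) F) + y • J) ^ n = a • 1 + b • J ∧
      a ^ 2 + b ^ 2 = (x ^ 2 + y ^ 2) ^ n := by
  induction n with
  | zero => exact ⟨1, 0, by simp, by simp⟩
  | succ n ih =>
    obtain ⟨a, b, h1, h2⟩ := ih
    refine ⟨a * x - b * y, a * y + b * x, ?_, ?_⟩
    · rw [pow_succ, h1, Matrix.add_mul, Matrix.mul_add, Matrix.mul_add]
      simp only [Matrix.smul_mul, Matrix.mul_smul, Matrix.one_mul, Matrix.mul_one, hJ, smul_smul]
      module
    · rw [pow_succ (x ^ 2 + y ^ 2) n, ← h2]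
      ring

theorem exists_X {r : ℕ} [Fact r.Prime] [CharP F r] (hr : r ≠ 2) {m : ℕ} (hm : 0 < m)
    (hmq : Even m ∨ Fintype.card F % 4 = 1) :
    ∃ (X : Matrix (Fin m) (Fin m) F) (N : ℕ), X ^ 2 ^ N = 1 ∧ ∀ B, X * B * Xᵀ = B → B = 0 := by
  have h2 : (2 : F) ≠ 0 := by
    intro h
    have : ((2 : ℕ) : F) = 0 := by exact_mod_cast h
    rw [CharP.cast_eq_zero_iff F r] at this
    exact hr ((Nat.prime_dvd_prime_iff_eq Fact.out Nat.prime_two).1 this)
  have hodd : Fintype.card F % 2 = 1 := by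
    refine FiniteField.odd_card_of_char_ne_two ?_
    rw [ringChar.eq_iff.2 ‹CharP F r›]
    exact hr
  by_cases hq : Fintype.card F % 4 = 1
  · have hsq : IsSquare (-1 : F) := FiniteField.isSquare_neg_one_iff.2 (by rw [hq]; norm_num)
    obtain ⟨i, hi⟩ := hsq
    refine ⟨i • 1, 2, ?_, fun B h => ?_⟩
    · rw [smul_pow, one_pow]
      have : i ^ 2 ^ 2 = 1 := by
        have : i ^ 2 ^ 2 = (i * i) * (i * i) := by ring
        rw [this, ← hi]
        ring
      rw [this, one_smul]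
    · rw [Matrix.transpose_smul, Matrix.transpose_one, Matrix.smul_mul, Matrix.one_mul, Matrix.mul_smul,
        Matrix.mul_one, smul_smul, ← hi] at h
      have h3 : (2 : F) • B = 0 := by
        have h4 : B + B = 0 := by
          nth_rewrite 1 [← h]
          rw [neg_smul, one_smul, neg_add_cancel]
        rw [two_smul, h4]
      exact (smul_eq_zero.1 h3).resolve_left h2
  · have hq3 : Fintype.card F % 4 = 3 := by omega
    have hm2 : Even m := hmq.resolve_right hq
    have hns : ¬ IsSquare (-1 : F) := by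
      rw [FiniteField.isSquare_neg_one_iff]
      simp [hq3]
    obtain ⟨J, hJ⟩ := exists_J (F := F) hm2
    obtain ⟨x, y, hxy⟩ : ∃ x y : F, x ^ 2 + y ^ 2 = -1 := by
      obtain ⟨x, y, h⟩ := FiniteField.exists_root_sum_quadratic (R := F)
        (f := (Polynomial.X ^ 2 : Polynomial F)) (g := (Polynomial.X ^ 2 + Polynomial.C 1 : Polynomial F))
        (by simp) (Polynomial.degree_X_pow_add_C (by norm_num) 1) hodd
      refine ⟨x, y, ?_⟩
      simp at h
      linear_combination h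
    obtain ⟨N, k, hk, hNk⟩ := Nat.exists_eq_two_pow_mul_odd (n := Fintype.card F + 1) (by omega)
    obtain ⟨a, b, hab, hab2⟩ := pow_form hJ x y k
    set Y : Matrix (Fin m) (Fin m) F := x • 1 + y • J with hY
    -- `Y ^ (q + 1) = -1`
    have hYq : Y ^ (Fintype.card F + 1) = -1 := by
      have : Nonempty (Fin m) := ⟨⟨0, hm⟩⟩
      obtain ⟨n, -, hn⟩ := FiniteField.card F r
      have e1 : Y ^ Fintype.card F = x • 1 + y • J ^ Fintype.card F := by
        have hc : Commute (x • (1 : Matrix (Fin m) (Fin m) F)) (y • J) :=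
          (Commute.one_left _).smul_left x
        have h5 := add_pow_char_pow_of_commute r (n : ℕ) hc
        rw [← hn] at h5
        rw [hY, h5, smul_pow, smul_pow, one_pow, FiniteField.pow_card, FiniteField.pow_card]
      have e2 : J ^ Fintype.card F = -J := by
        have h4 : J ^ 4 = 1 := by
          have : J ^ 4 = (J * J) * (J * J) := by
            simp only [pow_succ, pow_zero, one_mul, Matrix.mul_assoc]
          rw [this, hJ]
          simp
        have h5 : Fintype.card F = 4 * (Fintype.card F / 4) + 3 := by omega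
        rw [h5, pow_add, pow_mul, h4, one_pow, one_mul]
        have : J ^ 3 = (J * J) * J := by rw [← pow_two, ← pow_succ]
        rw [this, hJ, neg_one_mul]
      rw [pow_succ, e1, e2, hY, Matrix.add_mul, Matrix.mul_add, Matrix.mul_add]
      simp only [Matrix.smul_mul, Matrix.mul_smul, Matrix.one_mul, Matrix.mul_one, Matrix.neg_mul, hJ, smul_smul,
        neg_neg, smul_neg]
      have h6 : (-1 : Matrix (Fin m) (Fin m) F) = (x ^ 2 + y ^ 2) • 1 := by rw [hxy, neg_smul, one_smul]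
      rw [h6]
      module
    refine ⟨Y ^ k, N + 1, ?_, fun B hB => ?_⟩
    · rw [← pow_mul, pow_succ, mul_comm k, mul_assoc, mul_comm 2 k, ← mul_assoc, ← hNk, pow_mul, hYq]
      simp
    · have hk1 : a ^ 2 + b ^ 2 = -1 := by rw [hab2, hxy, hk.neg_one_pow]
      have ha : a ≠ 0 := by
        rintro rfl
        apply hns
        exact ⟨b, by linear_combination -hk1⟩
      refine sq_form (mul_ne_zero h2 ha) h2 (X := Y ^ k) ?_ hB
      rw [hab, Matrix.add_mul, Matrix.mul_add, Matrix.mul_add]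
      simp only [Matrix.smul_mul, Matrix.mul_smul, Matrix.one_mul, Matrix.mul_one, hJ, smul_smul]
      have h6 : (1 : Matrix (Fin m) (Fin m) F) = -((a ^ 2 + b ^ 2) • 1) := by rw [hk1, neg_smul, one_smul, neg_neg]
      have h7 : (2 * a) • (a • (1 : Matrix (Fin m) (Fin m) F) + b • J) + 1 =
          (2 * a) • (a • (1 : Matrix (Fin m) (Fin m) F) + b • J) + -((a ^ 2 + b ^ 2) • 1) := by rw [← h6]
      rw [h7]
      module

end X

end Cfsg.Agent.H65.EP.PSp
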