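import Cfsg.Agent.H892.EP.Rows
import Cfsg.Agent.H65.EP.SpUni

/-!
# `ParU r (PSp m F)`: `χ(1) ≡ dim χ^U mod 2`, if `m` is even or `q ≡ 1 mod 4` (helper65, task 5305, S4929)
-/

set_option autoImplicit false
set_option linter.unusedSectionVars false

open Matrix Cfsg Cfsg.Agent.Characters.Core Cfsg.Agent.H892.EP

namespace Cfsg.Agent.H65.EP

universe u v

section gen

variable {G : Type u} {H : Type v} [Group G] [Group H] [Finite G] [Finite H]

/-- from a group to a quotient -/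
theorem parU_of_surj {r : ℕ} [Fact r.Prime] (f : G →* H) (hf : Function.Surjective f) (P : Sylow r G)
    (hP : ∀ u ∈ (P : Subgroup G), f u = 1 → u = 1)
    (h : ∀ χ : G → ℂ, IsCharacter G χ → ∃ z : ℤ, md (P : Subgroup G) χ - χ 1 = 2 * z) : ParU r H := by
  intro χ V
  let U : Sylow r H := P.mapSurjective hf
  have hU : (U : Subgroup H) = (P : Subgroup G).map f := P.coe_mapSurjective hf
  obtain ⟨g, rfl⟩ := MulAction.exists_smul_eq H U V
  have hcl := isCharacter_isClassFunction (isIrr_isCharacter χ.2)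
  have h1 : md ((g • U : Sylow r H) : Subgroup H) (χ : H → ℂ) = md (U : Subgroup H) (χ : H → ℂ) := by
    have := Fintype.ofFinite (U : Subgroup H)
    have := Fintype.ofFinite ((g • U : Sylow r H) : Subgroup H)
    rw [md_eq, md_eq, Nat.card_congr (U.equivSMul g).symm.toEquiv]
    congr 1
    refine (Fintype.sum_equiv (U.equivSMul g).toEquiv _ _ fun x => ?_).symm
    have h2 : (((U.equivSMul g) x : ((g • U : Sylow r H) : Subgroup H)) : H) = g * x * g⁻¹ := rfl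
    show (χ : H → ℂ) x = (χ : H → ℂ) ((U.equivSMul g) x : ((g • U : Sylow r H) : Subgroup H))
    rw [h2]
    exact (hcl x g).symm
  have h3 : md (U : Subgroup H) (χ : H → ℂ) = md (P : Subgroup G) (fun x => (χ : H → ℂ) (f x)) := by
    have := Fintype.ofFinite (U : Subgroup H)
    have := Fintype.ofFinite (P : Subgroup G)
    let e : ↥(P : Subgroup G) → ↥(U : Subgroup H) := fun x => ⟨f x, by rw [hU]; exact ⟨x, x.2, rfl⟩⟩
    have he : Function.Bijective e := by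
      constructor
      · intro x y hxy
        have h4 : f x = f y := congrArg Subtype.val hxy
        have h5 : (x : G)⁻¹ * y = 1 := hP _ (mul_mem (inv_mem x.2) y.2) (by rw [map_mul, map_inv, h4, inv_mul_cancel])
        exact Subtype.ext (inv_mul_eq_one.1 h5)
      · rintro ⟨y, hy⟩
        rw [hU] at hy
        obtain ⟨x, hx, rfl⟩ := hy
        exact ⟨⟨x, hx⟩, rfl⟩
    rw [md_eq, md_eq, Nat.card_congr (Equiv.ofBijective e he)]
    congr 1
    exact (Fintype.sum_equiv (Equiv.ofBijective e he) _ _ fun x => rfl).symm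
  rw [h1, h3]
  obtain ⟨z, hz⟩ := h _ (isCharacter_comp f (isIrr_isCharacter χ.2))
  refine ⟨z, ?_⟩
  rw [← hz, Function.comp_apply, map_one]
  rfl

theorem mem_normalizer {a : G} {Q : Subgroup G} (h : ∀ x ∈ Q, a * x * a⁻¹ ∈ Q) :
    a ∈ Subgroup.normalizer (Q : Set G) := by
  have h1 : ∀ n : ℕ, ∀ x ∈ Q, a ^ n * x * (a ^ n)⁻¹ ∈ Q := by
    intro n
    induction n with
    | zero => intro x hx; simpa using hx
    | succ n ih =>
      intro x hx
      have e : a ^ (n + 1) * x * (a ^ (n + 1))⁻¹ = a ^ n * (a * x * a⁻¹) * (a ^ n)⁻¹ := by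
        rw [pow_succ]; group
      rw [e]
      exact ih _ (h x hx)
  rw [Subgroup.mem_normalizer_iff]
  refine fun x => ⟨h x, fun hx => ?_⟩
  have h2 := h1 (orderOf a - 1) _ hx
  have e : a ^ (orderOf a - 1) = a⁻¹ := by
    rw [← mul_eq_one_iff_eq_inv, ← pow_succ, Nat.sub_add_cancel (orderOf_pos a), pow_orderOf_eq_one]
  rw [e] at h2
  have e2 : a⁻¹ * (a * x * a⁻¹) * a⁻¹⁻¹ = x := by group
  rwa [e2] at h2

theorem le_normalizer {A Q : Subgroup G} (h : ∀ a ∈ A, ∀ x ∈ Q, a * x * a⁻¹ ∈ Q) :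
    A ≤ Subgroup.normalizer (Q : Set G) := by
  intro a ha
  rw [Subgroup.mem_normalizer_iff]
  refine fun x => ⟨h a ha x, fun hx => ?_⟩
  have := h a⁻¹ (inv_mem ha) _ hx
  have e : a⁻¹ * (a * x * a⁻¹) * a⁻¹⁻¹ = x := by group
  rwa [e] at this

theorem odd_of_isPGroup {r : ℕ} [Fact r.Prime] (hr : r ≠ 2) {Q : Subgroup G} (hQ : IsPGroup r Q) :
    Odd (Nat.card Q) := by
  obtain ⟨k, hk⟩ := IsPGroup.iff_card.1 hQ
  rw [hk]
  exact ((Fact.out : r.Prime).odd_of_ne_two hr).pow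

end gen

namespace PSp

variable {F : Type} [Field F] [Fintype F] {m : ℕ} {r : ℕ} [Fact r.Prime] [CharP F r]

theorem two_ne (hr : r ≠ 2) : (2 : F) ≠ 0 := by
  intro h
  have : ((2 : ℕ) : F) = 0 := by exact_mod_cast h
  rw [CharP.cast_eq_zero_iff F r] at this
  exact hr ((Nat.prime_dvd_prime_iff_eq Fact.out Nat.prime_two).1 this)

/-- the element `diag(ε, ε)` -/
def tt (ε : Fin m → F) (hε : ∀ i, ε i * ε i = 1) : Sp m F := ⟨fromBlocks (diagonal ε) 0 0 (diagonal ε), by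
  rw [SymplecticGroup.fromBlocks_mem_iff]
  simp [Matrix.diagonal_mul_diagonal, hε]⟩

theorem tt_mem (ε : Fin m → F) (hε : ∀ i, ε i * ε i = 1) : tt ε hε ∈ TT m F := ⟨ε, hε, rfl⟩

theorem mul_self_of_mem_TT {t : Sp m F} (ht : t ∈ TT m F) : t⁻¹ = t := by
  obtain ⟨ε, hε, hg⟩ := ht
  rw [inv_eq_iff_mul_eq_one]
  apply Subtype.ext
  show t.1 * t.1 = 1
  rw [hg, Matrix.fromBlocks_multiply, Matrix.diagonal_mul_diagonal]
  simp [hε]

theorem conj_TT {t g : Sp m F} {ε : Fin m → F} (hε : ∀ i, ε i * ε i = 1)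
    (ht : t.1 = fromBlocks (diagonal ε) 0 0 (diagonal ε)) {A B C D : Matrix (Fin m) (Fin m) F}
    (hg : g.1 = fromBlocks A B C D) : (t * g * t⁻¹).1 =
      fromBlocks (diagonal ε * A * diagonal ε) (diagonal ε * B * diagonal ε) (diagonal ε * C * diagonal ε)
        (diagonal ε * D * diagonal ε) := by
  rw [mul_self_of_mem_TT ⟨ε, hε, ht⟩]
  show t.1 * g.1 * t.1 = _
  rw [hg, ht, Matrix.fromBlocks_multiply, Matrix.fromBlocks_multiply]
  simp

theorem dd_apply (ε : Fin m → F) (A : Matrix (Fin m) (Fin m) F) (i j : Fin m) :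
    (diagonal ε * A * diagonal ε) i j = ε i * A i j * ε j := by
  rw [Matrix.mul_diagonal, Matrix.diagonal_mul]

theorem dd_one {ε : Fin m → F} (hε : ∀ i, ε i * ε i = 1) :
    diagonal ε * (1 : Matrix (Fin m) (Fin m) F) * diagonal ε = 1 := by
  rw [Matrix.mul_one, Matrix.diagonal_mul_diagonal]
  simp [hε]

theorem TT_le_UU : TT m F ≤ Subgroup.normalizer (UU m F : Set (Sp m F)) := by
  refine le_normalizer ?_
  rintro t ⟨ε, hε, ht⟩ g ⟨A, B, D, hg, hA⟩
  refine ⟨_, _, _, by rw [conj_TT hε ht hg, Matrix.mul_zero, Matrix.zero_mul], ?_, ?_⟩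
  · intro i
    rw [dd_apply, hA.1, mul_one, hε]
  · intro i j h
    rw [dd_apply, hA.2 i j h, mul_zero, zero_mul]

theorem TT_le_QQ : TT m F ≤ Subgroup.normalizer (QQ m F : Set (Sp m F)) := by
  refine le_normalizer ?_
  rintro t ⟨ε, hε, ht⟩ g ⟨B, hg⟩
  exact ⟨_, by rw [conj_TT hε ht hg, Matrix.mul_zero, Matrix.zero_mul, dd_one hε]⟩

theorem eq_of_dd (h2 : (2 : F) ≠ 0) {A : Matrix (Fin m) (Fin m) F}
    (h : ∀ ε : Fin m → F, (∀ i, ε i * ε i = 1) → diagonal ε * A * diagonal ε = A) {i j : Fin m} (hij : i ≠ j) :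
    A i j = 0 := by
  have h1 := h (Function.update 1 i (-1)) (fun k => by
    by_cases hk : k = i
    · subst hk; simp
    · simp [Function.update_of_ne hk])
  have h3 := congrFun (congrFun h1 i) j
  rw [dd_apply, Function.update_self, Function.update_of_ne hij.symm, Pi.one_apply, mul_one, neg_mul,
    one_mul] at h3
  have h4 : (2 : F) * A i j = 0 := by linear_combination -h3
  exact (mul_eq_zero.1 h4).resolve_left h2

theorem comm_iff_conj {G : Type*} [Group G] {a x : G} : a * x = x * a ↔ a * x * a⁻¹ = x :=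
  (mul_inv_eq_iff_eq_mul).symm

theorem mem_CC_UU (h2 : (2 : F) ≠ 0) (x : Sp m F) :
    x ∈ CC m F ↔ x ∈ UU m F ∧ ∀ a ∈ TT m F, a * x = x * a := by
  constructor
  · rintro ⟨B, hx, hB⟩
    refine ⟨⟨1, B, 1, hx, isUT_one⟩, ?_⟩
    rintro t ⟨ε, hε, ht⟩
    rw [comm_iff_conj]
    apply Subtype.ext
    rw [conj_TT hε ht hx, dd_one hε, Matrix.mul_zero, Matrix.zero_mul, hx]
    congr 1
    ext i j
    rw [dd_apply]
    by_cases hij : i = j
    · subst hij
      rw [mul_right_comm, hε, one_mul]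
    · rw [hB i j hij, mul_zero, zero_mul]
  · rintro ⟨⟨A, B, D, hx, hA⟩, hc⟩
    have key : ∀ ε : Fin m → F, (∀ i, ε i * ε i = 1) → diagonal ε * A * diagonal ε = A ∧
        diagonal ε * B * diagonal ε = B := by
      intro ε hε
      have h1 := hc _ (tt_mem ε hε)
      rw [comm_iff_conj] at h1
      have h3 := congrArg Subtype.val h1
      rw [conj_TT hε rfl hx, hx] at h3
      obtain ⟨e1, e2, -, -⟩ := Matrix.fromBlocks_inj.1 h3
      exact ⟨e1, e2⟩
    have hA1 : A = 1 := by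
      ext i j
      by_cases hij : i = j
      · subst hij
        rw [hA.1, Matrix.one_apply_eq]
      · rw [eq_of_dd h2 (fun ε hε => (key ε hε).1) hij, Matrix.one_apply_ne hij]
    have hD := rel hx
    rw [hA1, Matrix.transpose_one, Matrix.one_mul] at hD
    exact ⟨B, by rw [hx, hA1, hD], fun i j hij => eq_of_dd h2 (fun ε hε => (key ε hε).2) hij⟩

theorem QQ_le_UU : QQ m F ≤ UU m F := by
  rintro g ⟨B, hg⟩
  exact ⟨1, B, 1, hg, isUT_one⟩

theorem CC_le_QQ : CC m F ≤ QQ m F := by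
  rintro g ⟨B, hg, -⟩
  exact ⟨B, hg⟩

theorem mem_CC_QQ (h2 : (2 : F) ≠ 0) (x : Sp m F) :
    x ∈ CC m F ↔ x ∈ QQ m F ∧ ∀ a ∈ TT m F, a * x = x * a := by
  constructor
  · exact fun h => ⟨CC_le_QQ h, ((mem_CC_UU h2 x).1 h).2⟩
  · exact fun h => (mem_CC_UU h2 x).2 ⟨QQ_le_UU h.1, h.2⟩

/-- the element `a` of the Levi complement -/
theorem exists_a (hr : r ≠ 2) (hm : 0 < m) (hmq : Even m ∨ Fintype.card F % 4 = 1) :
    ∃ a : Sp m F, (∃ N, a ^ 2 ^ N = 1) ∧ (∀ x ∈ QQ m F, a * x * a⁻¹ ∈ QQ m F) ∧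
      ∀ x ∈ QQ m F, a * x = x * a → x = 1 := by
  obtain ⟨X, N, hN, hX⟩ := exists_X hr hm hmq
  have hu : IsUnit X := IsUnit.of_pow_eq_one hN (by positivity)
  have hdet := (Matrix.isUnit_iff_isUnit_det X).1 hu
  have hY : Xᵀ * (X⁻¹)ᵀ = 1 := by
    rw [← Matrix.transpose_mul, Matrix.nonsing_inv_mul _ hdet, Matrix.transpose_one]
  have hY' : (X⁻¹)ᵀ * Xᵀ = 1 := by
    rw [← Matrix.transpose_mul, Matrix.mul_nonsing_inv _ hdet, Matrix.transpose_one]
  have key : ∀ (x : Sp m F) (B : Matrix (Fin m) (Fin m) F), x.1 = fromBlocks 1 B 0 1 →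
      (lev X (X⁻¹)ᵀ hY * x).1 = fromBlocks X (X * B) 0 (X⁻¹)ᵀ := by
    intro x B hx
    show fromBlocks X 0 0 (X⁻¹)ᵀ * x.1 = _
    rw [hx, Matrix.fromBlocks_multiply]
    simp
  have key2 : ∀ (x : Sp m F) (B : Matrix (Fin m) (Fin m) F), x.1 = fromBlocks 1 B 0 1 →
      (x * lev X (X⁻¹)ᵀ hY).1 = fromBlocks X (B * (X⁻¹)ᵀ) 0 (X⁻¹)ᵀ := by
    intro x B hx
    show x.1 * fromBlocks X 0 0 (X⁻¹)ᵀ = _
    rw [hx, Matrix.fromBlocks_multiply]
    simp
  refine ⟨lev X (X⁻¹)ᵀ hY, ⟨N, ?_⟩, ?_, ?_⟩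
  · have e : ∀ n : ℕ, (lev X (X⁻¹)ᵀ hY ^ n).1 = fromBlocks (X ^ n) 0 0 (((X⁻¹)ᵀ) ^ n) := by
      intro n
      induction n with
      | zero => rw [pow_zero, pow_zero, pow_zero]; exact (Matrix.fromBlocks_one).symm
      | succ n ih =>
        rw [pow_succ, pow_succ, pow_succ]
        show (lev X (X⁻¹)ᵀ hY ^ n).1 * fromBlocks X 0 0 (X⁻¹)ᵀ = _
        rw [ih, Matrix.fromBlocks_multiply]
        simp
    apply Subtype.ext
    rw [e, hN, ← Matrix.transpose_pow, Matrix.inv_pow', hN]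
    simp
  · rintro x ⟨B, hx⟩
    have hs : Bᵀ = B := by
      have h1 := x.2
      rw [hx, SymplecticGroup.fromBlocks_mem_iff] at h1
      simpa using h1.2.1
    have hs2 : (X * B * Xᵀ)ᵀ = X * B * Xᵀ := by
      rw [Matrix.transpose_mul, Matrix.transpose_mul, Matrix.transpose_transpose, hs, Matrix.mul_assoc]
    have : lev X (X⁻¹)ᵀ hY * x * (lev X (X⁻¹)ᵀ hY)⁻¹ = nn (X * B * Xᵀ) hs2 := by
      rw [mul_inv_eq_iff_eq_mul]
      apply Subtype.ext
      rw [key x B hx, key2 _ _ rfl, Matrix.mul_assoc (X * B), hY, Matrix.mul_one]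
    rw [this]
    exact ⟨_, rfl⟩
  · rintro x ⟨B, hx⟩ hc
    have h1 := congrArg Subtype.val hc
    rw [key x B hx, key2 x B hx] at h1
    obtain ⟨-, h3, -, -⟩ := Matrix.fromBlocks_inj.1 h1
    have h4 : X * B * Xᵀ = B := by
      rw [h3, Matrix.mul_assoc, hY', Matrix.mul_one]
    apply Subtype.ext
    rw [hx, hX B h4]
    exact Matrix.fromBlocks_one

theorem main (hr : r ≠ 2) (hm : 0 < m) (hmq : Even m ∨ Fintype.card F % 4 = 1) {χ : Sp m F → ℂ}
    (hχ : IsCharacter (Sp m F) χ) : ∃ z : ℤ, md (UU m F) χ - χ 1 = 2 * z := by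
  have h2 : (2 : F) ≠ 0 := two_ne (r := r) hr
  obtain ⟨a, ⟨N, hN⟩, ha1, ha2⟩ := exists_a (F := F) hr hm hmq
  obtain ⟨z1, h1⟩ := parity (TT m F) isPGroup_TT hχ _ (UU m F) (CC m F) rfl
    (odd_of_isPGroup hr (isPGroup_UU (r := r))) TT_le_UU (mem_CC_UU h2)
  obtain ⟨z2, h3⟩ := parity (TT m F) isPGroup_TT hχ _ (QQ m F) (CC m F) rfl
    (odd_of_isPGroup hr (isPGroup_QQ (r := r))) TT_le_QQ (mem_CC_QQ h2)
  have hA : IsPGroup 2 (Subgroup.zpowers a) := by
    rintro ⟨_, k, rfl⟩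
    refine ⟨N, Subtype.ext ?_⟩
    show (a ^ k) ^ 2 ^ N = 1
    rw [← zpow_natCast, ← _root_.zpow_mul, mul_comm, _root_.zpow_mul, zpow_natCast, hN, _root_.one_zpow]
  obtain ⟨z3, h4⟩ := parity_one (QQ m F) (Subgroup.zpowers a) (odd_of_isPGroup hr (isPGroup_QQ (r := r))) hA
    (by rw [Subgroup.zpowers_le]; exact mem_normalizer ha1)
    (fun u hu h => ha2 u hu (h a (Subgroup.mem_zpowers a))) hχ
  refine ⟨z1 - z2 + z3, ?_⟩
  push_cast
  linear_combination h1 - h3 + h4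

end PSp

variable {F : Type} [Field F] [Fintype F] {r : ℕ} [Fact r.Prime] [CharP F r]

theorem pu_psp (hr : r ≠ 2) {m : ℕ} (hm : 2 ≤ m) (hmq : Even m ∨ Fintype.card F % 4 = 1) : ParU r (PSp m F) := by
  obtain ⟨P, hP⟩ := PSp.exists_sylow (m := m) (F := F) (r := r)
  refine parU_of_surj (QuotientGroup.mk' (Subgroup.center (Matrix.symplecticGroup (Fin m) F)))
    (QuotientGroup.mk'_surjective _) P ?_ ?_
  · intro u hu h1
    rw [hP] at hu
    have hc : u ∈ Subgroup.center (Matrix.symplecticGroup (Fin m) F) := (QuotientGroup.eq_one_iff u).1 h1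
    obtain ⟨a, -, -, ha⟩ := PSp.exists_a (F := F) (m := m) hr (by omega) hmq
    have h2 : (2 : F) ≠ 0 := PSp.two_ne (r := r) hr
    have h3 : u ∈ PSp.CC m F := (PSp.mem_CC_UU h2 u).2 ⟨hu, fun a _ => Subgroup.mem_center_iff.1 hc a⟩
    exact ha u (PSp.CC_le_QQ h3) (Subgroup.mem_center_iff.1 hc a)
  · intro χ hχ
    rw [hP]
    exact PSp.main hr (by omega) hmq hχ

end Cfsg.Agent.H65.EP
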